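import Cfsg.Agent.Lib.Loc45.TB
import Cfsg.Agent.Lib.Core.CoprimeSylow

/-! The Thompson transitivity theorem for groups with `p`-constrained `p`-locals. -/

set_option autoImplicit false
set_option linter.unusedSectionVars false

namespace H45.TB

open Cfsg H69 H45 Subgroup
open scoped Pointwise commutatorElement

universe u

variable {G : Type u} [Group G] [Finite G]

theorem trans_of_local {p q : ℕ} [hp : Fact p.Prime] [Fact q.Prime] (hq : q ≠ p) {E : Subgroup G}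
    (hEp : IsPGroup p E) (hEc : IsMulCommutative E) (h3 : 2 < pRk p E)
    (hloc : ∀ u ∈ E, u ≠ 1 → ∀ Y ≤ 𝐂[u], IsPi {p}ᶜ Y → E ≤ 𝐍(Y) → Y ≤ O[{p}ᶜ] 𝐂[u])
    {Q₁ Q₂ : Subgroup G} (h₁ : Q₁ ∈ maxInvSubgroups ⊤ E {q}) (h₂ : Q₂ ∈ maxInvSubgroups ⊤ E {q}) :
    ∃ k ∈ O[{p}ᶜ] 𝐂(E), Q₂ = Q₁ ^ᶜ k := by
  have hqπ : ({q} : Set ℕ) ⊆ {p}ᶜ := Set.singleton_subset_iff.mpr hq
  obtain ⟨B, hBE, hB, hcard⟩ := min_exists_pnElem hp.out (show 3 ≤ pRk p E from h3)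
  have hco : ∀ X Y : Subgroup G, IsPi {p}ᶜ X → Y ≤ E → (Nat.card X).Coprime (Nat.card Y) :=
    fun X Y hX hY => (coprime_of_isPGroup_of_isPi hp.out (pgroupS hEp hY) hX (by simp)).symm
  suffices key : ∀ n : ℕ, ∀ Q₁ Q₂ : Subgroup G, Nat.card G < Nat.card ↥(Q₁ ⊓ Q₂) + n →
      Q₁ ∈ maxInvSubgroups ⊤ E {q} → Q₂ ∈ maxInvSubgroups ⊤ E {q} →
      ∃ k ∈ O[{p}ᶜ] 𝐂(E), Q₂ = Q₁ ^ᶜ k from
    key (Nat.card G) Q₁ Q₂ (Nat.lt_add_of_pos_left Nat.card_pos) h₁ h₂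
  clear h₁ h₂ Q₁ Q₂
  intro n
  induction n with
  | zero =>
    intro Q₁ Q₂ hc _ _
    have := card_le_card_group (Q₁ ⊓ Q₂)
    omega
  | succ n ih =>
    intro Q₁ Q₂ hc h₁ h₂
    by_cases h12 : Q₁ = Q₂
    · exact ⟨1, one_mem _, by rw [cj_one, h12]⟩
    set D := Q₁ ⊓ Q₂ with hD
    have l₁ : D < Q₁ := inf_lt_left.mpr fun h =>
      h12 (max_normed_max_top h₁ (max_normed_isPi h₂) (max_normed_norm h₂) h).symm
    have l₂ : D < Q₂ := inf_lt_right.mpr fun h =>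
      h12 (max_normed_max_top h₂ (max_normed_isPi h₁) (max_normed_norm h₁) h)
    have nD : E ≤ 𝐍(D) := le_normalizer_inf (max_normed_norm h₁) (max_normed_norm h₂)
    have nND : E ≤ 𝐍(𝐍(D)) := le_normalizer_of_le nD
    have m₁ := lt_inf_normalizer_of_lt (max_normed_isPGroup h₁) l₁
    have m₂ := lt_inf_normalizer_of_lt (max_normed_isPGroup h₂) l₂
    have nN : ∀ Q ∈ maxInvSubgroups ⊤ E {q}, E ≤ 𝐍(Q ⊓ 𝐍(D)) := fun Q hQ =>
      le_normalizer_inf (max_normed_norm hQ) nND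
    have pN : ∀ Q ∈ maxInvSubgroups ⊤ E {q}, IsPi {p}ᶜ (Q ⊓ 𝐍(D)) := fun Q hQ =>
      ((max_normed_isPi hQ).inf_left _).mono hqπ
    obtain ⟨C, hCB, hcyc, hC⟩ : ∃ C ≤ B, IsCyclic (B /ₙ C) ∧ ¬ Q₁ ⊓ 𝐍(D) ⊓ 𝐂(C) ≤ D := by
      by_contra hc
      push Not at hc
      exact m₁.not_ge (BG.coprime_abelian_gen_cent hB.1 (hBE.trans (nN _ h₁))
        (hco _ _ (pN _ h₁) hBE) hc)
    have hnc : ¬ IsCyclic C := by
      intro hc
      have h0 := H49.card_le_of_isCyclic_of_pow_eq_one hp.out.pos hc fun x hx => hB.2 x (hCB hx)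
      have h1 := H49.card_le_of_isCyclic_of_pow_eq_one hp.out.pos hcyc (quotient_abelem C hB).2
      have h2 := card_quotient_mul (normalIn_of_abelian hB.1 hCB)
      have h4 : Nat.card C * Nat.card (B /ₙ C) ≤ p * p := Nat.mul_le_mul h0 h1
      rw [h2, hcard, ← pow_two] at h4
      exact absurd ((Nat.pow_le_pow_iff_right hp.out.one_lt).mp h4) (by norm_num)
    obtain ⟨u, hu, hu1, huQ⟩ : ∃ u ∈ C, u ≠ 1 ∧ ¬ Q₂ ⊓ 𝐍(D) ⊓ 𝐂[u] ≤ D := by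
      by_contra hc
      push Not at hc
      exact m₂.not_ge (BG.coprime_abelian_gen_cent1 (abelianS hB.1 hCB) hnc
        ((hCB.trans hBE).trans (nN _ h₂)) (hco _ _ (pN _ h₂) (hCB.trans hBE)) hc)
    have huE : u ∈ E := hBE (hCB hu)
    have hC' : ¬ Q₁ ⊓ 𝐍(D) ⊓ 𝐂[u] ≤ D := fun h => hC ((inf_le_inf_left _ (cent_le_cent1 hu)).trans h)
    have hEu : E ≤ 𝐂[u] := le_cent1_iff.2 (abelian_iff_le_centralizer.1 hEc huE)
    set L := O[{p}ᶜ] 𝐂[u] ⊓ 𝐍(D)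
    have nL : E ≤ 𝐍(L) := le_normalizer_inf (hEu.trans (pcore_norm _ _)) nND
    have pL : IsPi {p}ᶜ L := (pcore_pgroup _ _).inf_left _
    have coL := (hco _ _ pL le_rfl).symm
    have solE : Group.IsSolvable E ∨ Group.IsSolvable L := Or.inl (H1.isSolvable_of_isPGroup hEp)
    have Qsyl : ∀ Q ∈ maxInvSubgroups ⊤ E {q}, ∃ R, H68.SylowIn q R L ∧ Q ⊓ 𝐍(D) ⊓ 𝐂[u] ≤ R ∧
        E ≤ 𝐍(R) := by
      intro Q hQ
      have nT : E ≤ 𝐍(Q ⊓ 𝐍(D) ⊓ 𝐂[u]) := le_normalizer_inf (nN Q hQ) (le_normalizer_of_le hEu)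
      exact H2.exists_invariant_sylowIn_ge nL coL solE
        (le_inf (hloc u huE hu1 _ inf_le_right ((pN Q hQ).inf_left _) nT)
          (inf_le_left.trans inf_le_right))
        (pgroupS (max_normed_isPGroup hQ) (inf_le_left.trans inf_le_left)) nT
    obtain ⟨R₁, sR₁, lR₁, nR₁⟩ := Qsyl Q₁ h₁
    obtain ⟨R₂, sR₂, lR₂, nR₂⟩ := Qsyl Q₂ h₂
    obtain ⟨c, hc', e⟩ := H2.exists_centralizer_cj_eq_of_sylowIn nL coL solE sR₁ sR₂ nR₁ nR₂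
    change R₁ ^ᶜ c = R₂ at e
    have hK : c ∈ O[{p}ᶜ] 𝐂(E) := pcore_setI_sub _ (cent_le_cent1 huE) ⟨hc'.1.1, hc'.2⟩
    have hcD : D ^ᶜ c = D := cj_eq_of_mem_normalizer hc'.1.2
    have pD : IsPGroup q D := pgroupS (max_normed_isPGroup h₁) l₁.le
    obtain ⟨Q₃, h₃, s₃⟩ := max_normed_exists_p (A := E) (R := R₂ ⊔ D)
      (sR₂.isPGroup.to_sup_of_normal_right' pD (sR₂.le.trans inf_le_right))
      (le_normalizer_sup nR₂ nD)
    have h₁' := cent_core_acts_max_norm h₁ hK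
    have c₁ : D < Q₁ ^ᶜ c ⊓ Q₃ := by
      refine lt_of_le_not_ge (le_inf (hcD ▸ cj_mono c l₁.le) (le_sup_right.trans s₃)) fun h => hC' ?_
      rw [← cj_le_cj_iff (g := c), hcD]
      exact (le_inf (cj_mono c (inf_le_left.trans inf_le_left))
        ((cj_mono c lR₁).trans (e.le.trans (le_sup_left.trans s₃)))).trans h
    have c₂ : D < Q₃ ⊓ Q₂ := lt_of_le_not_ge (le_inf (le_sup_right.trans s₃) l₂.le) fun h => huQ
      ((le_inf (lR₂.trans (le_sup_left.trans s₃)) (inf_le_left.trans inf_le_left)).trans h)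
    have d₁ := H1.card_lt_of_lt c₁
    have d₂ := H1.card_lt_of_lt c₂
    obtain ⟨f, hf, e₁⟩ := ih _ Q₃ (by omega) h₁' h₃
    obtain ⟨g, hg, e₂⟩ := ih Q₃ Q₂ (by omega) h₃ h₂
    refine ⟨g * (f * c), mul_mem hg (mul_mem hf hK), ?_⟩
    rw [e₂, e₁, cj_cj, cj_cj, mul_assoc]

theorem transitivity {p : ℕ} [hp : Fact p.Prime]
    (hloc : ∀ T : Subgroup G, IsPGroup p T → T ≠ ⊥ → IsPConstrained p 𝐍(T))
    (h2 : p = 2 → ∀ S : Subgroup G, IsPGroup p S → ⁅⁅S, S⁆, S⁆ = ⊥)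
    {E : Subgroup G} (hEp : IsPGroup p E) (hEc : IsMulCommutative E) (h3 : 2 < pRk p E)
    (hfull : ∀ x ∈ 𝐂(E), IsPiElt {p} x → x ∈ E) {q : ℕ} [Fact q.Prime] (hq : q ≠ p)
    {Q₁ Q₂ : Subgroup G} (h₁ : Q₁ ∈ maxInvSubgroups ⊤ E {q}) (h₂ : Q₂ ∈ maxInvSubgroups ⊤ E {q}) :
    ∃ k ∈ O[{p}ᶜ] 𝐂(E), Q₂ = Q₁ ^ᶜ k := by
  refine trans_of_local hq hEp hEc h3 (fun u huE hu1 Y hY hYp nY => ?_) h₁ h₂
  set H := 𝐍(zpowers u)
  have hX := hloc (zpowers u) (pgroupS hEp (zpowers_le.2 huE)) (zpowers_ne_bot hu1)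
  have hCH : 𝐂[u] ≤ H := by rw [← centralizer_zpowers]; exact centralizer_le_normalizer _
  have hEH : E ≤ H := (le_cent1_iff.2 (abelian_iff_le_centralizer.1 hEc huE)).trans hCH
  have hYH : Y ≤ H := hY.trans hCH
  have hA : IsPGroup p (E.subgroupOf H) := H68.isPGroup_subgroupOf hEp H
  have hQ : IsPi {p}ᶜ (Y.subgroupOf H) := fun r hr hd => hYp r hr (by
    rwa [Nat.card_congr (subgroupOfEquivOfLe hYH).toEquiv] at hd)
  have hAQ : E.subgroupOf H ≤ 𝐍(Y.subgroupOf H) :=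
    (comap_mono nY).trans (le_normalizer_comap _)
  have hΩ : ∀ x ∈ 𝐂(E.subgroupOf H), IsPiElt {p} x → x ∈ E.subgroupOf H := by
    intro x hx hxp
    refine hfull x (mem_centralizer_iff_commute.2 fun e he => ?_) (p_elt_map H.subtype hxp)
    exact congrArg Subtype.val (mem_centralizer_iff_commute.1 hx ⟨e, hEH he⟩ he)
  have key : Y.subgroupOf H ≤ pPrimeCore p H := by
    by_cases hp2 : p = 2
    · refine tb_cl2 hX (fun S hS => ?_) hA hΩ hQ hAQ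
      apply map_injective H.subtype_injective
      rw [map_commutator, map_commutator, Subgroup.map_bot]
      exact h2 hp2 _ (hS.map _)
    · exact tb_odd hp2 hX hA (fun x hx ho => hΩ x hx (p_elt_of_orderOf_prime hp.out ho rfl)) hQ hAQ
  refine (le_inf ?_ hY).trans (pcore_setI_sub _ hCH)
  rw [pcore_compl_eq_pPrimeCore, ← inf_eq_left.2 hYH, ← subgroupOf_map_subtype]
  exact map_mono key

end H45.TB
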